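import Groth.Agent.Lib.Helper34.LocSymLib.Place
import Groth.Agent.Lib.Helper88.FunFldDeg

/-!
# Interface: the valuations attached to rational points of a smooth proper curve over an
algebraically closed field (helper34).  All statements avoid the `k`-algebra structure on the
function field: constants are `LocSym.constFun c`.
-/

set_option autoImplicit false
set_option linter.style.haveILetI false

namespace Groth.Agent.Lib.Helper34.LocSymLib

universe u

open AlgebraicGeometry CategoryTheory FunFld IsLocalRing Groth.Agent.Lib.Helper88.FF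
open Groth.Agent.Lib.Helper34.Curve Groth.Agent.Lib.Helper34.CurveAC WithZero

variable {k : Type u} [Field k] [IsAlgClosed k] {X : Scheme.{u}} [IsIntegral X]
  {c : X ⟶ Spec (CommRingCat.of k)} [IsProper c] [Smooth c] (hdim : topologicalKrullDim X = 1)

/-- rational points ≃ places -/
noncomputable def Pt.placeEquiv : letI := overInst c; LocSym.Pt c ≃ Place k X.functionField :=
  letI := overInst c
  Equiv.ofBijective (Pt.place hdim) ⟨Pt.place_injective hdim, Pt.place_surjective hdim⟩

/-- the valuation attached to a rational point -/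
noncomputable def Pt.val (x : LocSym.Pt c) : Valuation X.functionField ℤᵐ⁰ :=
  letI := overInst c
  (Pt.place hdim x).1

theorem Pt.ord_eq_val (x : LocSym.Pt c) (g : X.functionField) :
    x.ord g = -log (Pt.val hdim x g) := Pt.ord_eq hdim x g

theorem Pt.val_surjective (x : LocSym.Pt c) : Function.Surjective (Pt.val hdim x) := by
  letI := overInst c
  exact (Pt.place hdim x).2.2

theorem Pt.val_constFun_le (x : LocSym.Pt c) (a : k) :
    Pt.val hdim x (LocSym.constFun c a) ≤ 1 := by
  letI := overInst c
  exact (Pt.place hdim x).2.1 a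

theorem Pt.val_constFun (x : LocSym.Pt c) {a : k} (ha : a ≠ 0) :
    Pt.val hdim x (LocSym.constFun c a) = 1 := by
  letI := overInst c
  exact val_algebraMap (Pt.place hdim x) ha

theorem Pt.val_injective {x y : LocSym.Pt c} (h : Pt.val hdim x = Pt.val hdim y) : x = y := by
  letI := overInst c
  exact Pt.place_injective hdim (Subtype.ext h)

include hdim in
theorem finite_ord_ne_zero (g : X.functionField) : {x : LocSym.Pt c | x.ord g ≠ 0}.Finite := by
  letI := overInst c
  have h := finite_support_ord (isFF (c := c) hdim) g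
  refine (h.preimage (Pt.place_injective hdim).injOn).subset ?_
  intro x hx
  rw [Set.mem_preimage, Function.mem_support, ← Pt.ord_eq hdim x g]
  exact hx

theorem weak_approx (S : Finset (LocSym.Pt c)) (a : LocSym.Pt c → X.functionField) (N : ℤ) :
    ∃ z : X.functionField, ∀ x ∈ S, Pt.val hdim x (z - a x) ≤ exp (-N) := by
  letI := overInst c
  classical
  obtain ⟨z, hz⟩ := Groth.Agent.Lib.Helper88.FF.weak_approx
    (S.map (Pt.placeEquiv hdim).toEmbedding) (fun P => a ((Pt.placeEquiv hdim).symm P)) N
  refine ⟨z, fun x hx => ?_⟩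
  have := hz (Pt.placeEquiv hdim x) (Finset.mem_map_of_mem _ hx)
  rw [Equiv.symm_apply_apply] at this
  exact this

theorem exists_pole {g : X.functionField} (hg : g ∉ Set.range (LocSym.constFun c)) :
    ∃ x : LocSym.Pt c, 1 < Pt.val hdim x g := by
  letI := overInst c
  have hg0 : g ≠ 0 := by
    rintro rfl
    exact hg ⟨0, map_zero _⟩
  obtain ⟨Q, hQ⟩ := Groth.Agent.Lib.Helper88.FF.exists_pole (isFF (c := c) hdim) (x := g) hg
  obtain ⟨x, rfl⟩ := Pt.place_surjective (c := c) hdim Q
  exact ⟨x, (one_lt_val_iff _ hg0).2 hQ⟩

theorem exists_value (x : LocSym.Pt c) {g : X.functionField} (hg : Pt.val hdim x g ≤ 1) :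
    ∃ a : k, Pt.val hdim x (g - LocSym.constFun c a) < 1 := by
  letI := overInst c
  exact exists_val_sub_lt (isFF (c := c) hdim) (Pt.place hdim x) hg

include hdim in
theorem finsum_ord (g : X.functionField) : ∑ᶠ x : LocSym.Pt c, x.ord g = 0 := by
  letI := overInst c
  have hK := isFF (c := c) hdim
  have h1 : ∑ᶠ x : LocSym.Pt c, x.ord g = ∑ᶠ P : Place k X.functionField, P.ord g := by
    rw [← finsum_comp_equiv (Pt.placeEquiv hdim)]
    exact finsum_congr (fun x => Pt.ord_eq hdim x g)
  rw [h1]
  have h2 := deg_div hK g
  unfold Divisor.deg at h2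
  rw [Finsupp.sum] at h2
  rw [finsum_eq_sum_of_support_subset (s := (FunFld.div k g).support)]
  · rw [← h2]
    apply Finset.sum_congr rfl
    intro P _
    rw [div_apply hK, deg_eq_one_of_isAlgClosed hK P]
    simp
  · intro P hP
    rw [Function.mem_support] at hP
    rw [Finset.mem_coe, Finsupp.mem_support_iff, div_apply hK]
    exact hP

end Groth.Agent.Lib.Helper34.LocSymLib
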