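import Groth.Agent.Lib.Helper34.LocSymLib.Pt
import Mathlib.RingTheory.OrderOfVanishing.Noetherian

/-!
# The order function of `LocSym` in terms of places (helper34)
-/

set_option autoImplicit false
set_option linter.style.haveILetI false

namespace Groth.Agent.Lib.Helper34.LocSymLib

universe u

open AlgebraicGeometry CategoryTheory FunFld IsLocalRing Groth.Agent.Lib.Helper88.FF
open Groth.Agent.Lib.Helper34.Curve Groth.Agent.Lib.Helper34.CurveAC WithZero

section scheme

variable (k : Type u) [Field k] (C : Scheme.{u}) [C.Over (Spec (CommRingCat.of k))] [IsIntegral C]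
  [Smooth (C ↘ Spec (CommRingCat.of k))] [IsProper (C ↘ Spec (CommRingCat.of k))]
  (hdim : topologicalKrullDim C = 1) (hK : IsFunctionField k C.functionField)

include k hdim in
lemma isDVR_stalk (p : C) (hp : p ≠ genericPoint C) :
    IsDiscreteValuationRing (C.presheaf.stalk p) := by
  haveI := Groth.Agent.Lib.Helper30.SmoothRegular.stalk_regular_of_smooth_field k
    (C ↘ Spec (CommRingCat.of k)) p
  haveI : IsPrincipalIdealRing (C.presheaf.stalk p) :=
    Groth.Agent.Lib.Helper22.DedekindFree.isPrincipalIdealRing_of_regular_of_dim_le_one _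
      ((Groth.Agent.Lib.Helper22.DedekindFree.ringKrullDim_stalk_le C p).trans hdim.le)
  refine { not_a_field' := ?_ }
  intro h
  exact hp (eq_genericPoint_of_isField C (IsLocalRing.isField_iff_maximalIdeal_eq.2 h))

/-- a unit of the local ring has value `1` at the place -/
lemma val_unit (p : C) (hp : p ≠ genericPoint C) {u : C.presheaf.stalk p} (hu : IsUnit u) :
    (placeOf k C hdim hK p hp).1 (algebraMap (C.presheaf.stalk p) C.functionField u) = 1 := by
  obtain ⟨v, hv⟩ := hu.exists_right_inv
  have h1 : (placeOf k C hdim hK p hp).1 (algebraMap (C.presheaf.stalk p) C.functionField u) ≤ 1 :=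
    (placeOf_spec k C hdim hK p hp _).2 ⟨u, rfl⟩
  have h2 : (placeOf k C hdim hK p hp).1 (algebraMap (C.presheaf.stalk p) C.functionField v) ≤ 1 :=
    (placeOf_spec k C hdim hK p hp _).2 ⟨v, rfl⟩
  have h3 : (placeOf k C hdim hK p hp).1 (algebraMap (C.presheaf.stalk p) C.functionField u) *
      (placeOf k C hdim hK p hp).1 (algebraMap (C.presheaf.stalk p) C.functionField v) = 1 := by
    rw [← map_mul, ← map_mul, hv, map_one, map_one]
  apply le_antisymm h1
  by_contra hlt
  rw [not_le] at hlt
  have : (placeOf k C hdim hK p hp).1 (algebraMap (C.presheaf.stalk p) C.functionField u) *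
      (placeOf k C hdim hK p hp).1 (algebraMap (C.presheaf.stalk p) C.functionField v) < 1 :=
    calc _ ≤ (placeOf k C hdim hK p hp).1 (algebraMap (C.presheaf.stalk p) C.functionField u) * 1 :=
          mul_le_mul' le_rfl h2
      _ = _ := mul_one _
      _ < 1 := hlt
  exact absurd h3 this.ne

/-- a nonunit of the local ring has value `< 1` at the place -/
lemma val_nonunit (p : C) (hp : p ≠ genericPoint C) {a : C.presheaf.stalk p} (ha : ¬ IsUnit a) :
    (placeOf k C hdim hK p hp).1 (algebraMap (C.presheaf.stalk p) C.functionField a) < 1 := by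
  by_contra hcon
  rw [not_lt] at hcon
  have h1 : (placeOf k C hdim hK p hp).1 (algebraMap (C.presheaf.stalk p) C.functionField a) ≤ 1 :=
    (placeOf_spec k C hdim hK p hp _).2 ⟨a, rfl⟩
  have heq := le_antisymm h1 hcon
  -- then the inverse is in the local ring
  have ha0 : algebraMap (C.presheaf.stalk p) C.functionField a ≠ 0 := by
    intro h0
    rw [h0, map_zero] at heq
    exact zero_ne_one heq
  have hinv : (placeOf k C hdim hK p hp).1
      (algebraMap (C.presheaf.stalk p) C.functionField a)⁻¹ ≤ 1 := by
    rw [map_inv₀, heq, inv_one]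
  obtain ⟨b, hb⟩ := (placeOf_spec k C hdim hK p hp _).1 hinv
  have hab : a * b = 1 := by
    apply IsFractionRing.injective (C.presheaf.stalk p) C.functionField
    rw [map_mul, hb, map_one, mul_inv_cancel₀ ha0]
  exact ha (IsUnit.of_mul_eq_one b hab)

/-- an irreducible element of the local ring is a uniformizer of the place -/
lemma val_irreducible (p : C) (hp : p ≠ genericPoint C) {ϖ : C.presheaf.stalk p}
    (hϖ : Irreducible ϖ) :
    (placeOf k C hdim hK p hp).1 (algebraMap (C.presheaf.stalk p) C.functionField ϖ) =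
      exp (-1 : ℤ) := by
  haveI := isDVR_stalk k C hdim p hp
  obtain ⟨t, ht⟩ := exists_uniformizer (placeOf k C hdim hK p hp)
  have ht1 : (placeOf k C hdim hK p hp).1 t ≤ 1 := by
    rw [ht, ← exp_zero, exp_le_exp]; omega
  obtain ⟨b, hb⟩ := (placeOf_spec k C hdim hK p hp _).1 ht1
  have hbnu : ¬ IsUnit b := by
    intro hu
    have := val_unit k C hdim hK p hp hu
    rw [hb, ht, ← exp_zero] at this
    have := exp_injective this
    omega
  have hdvd : ϖ ∣ b := by
    have hmem : b ∈ maximalIdeal (C.presheaf.stalk p) := hbnu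
    rw [hϖ.maximalIdeal_eq, Ideal.mem_span_singleton] at hmem
    exact hmem
  obtain ⟨b', rfl⟩ := hdvd
  have hlt := val_nonunit k C hdim hK p hp hϖ.not_isUnit
  have hle : exp (-1 : ℤ) ≤
      (placeOf k C hdim hK p hp).1 (algebraMap (C.presheaf.stalk p) C.functionField ϖ) := by
    rw [← ht, ← hb, map_mul, map_mul]
    calc _ ≤ (placeOf k C hdim hK p hp).1 (algebraMap (C.presheaf.stalk p) C.functionField ϖ) * 1 :=
          mul_le_mul' le_rfl ((placeOf_spec k C hdim hK p hp _).2 ⟨b', rfl⟩)
      _ = _ := mul_one _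
  exact le_antisymm (lt_one_iff_le_exp_neg_one.1 hlt) hle

/-- **The order of vanishing at a closed point is the order at the corresponding place.** -/
theorem ordFrac_eq (p : C) (hp : p ≠ genericPoint C) (g : C.functionField) :
    CycAlg.ordFrac (C.presheaf.stalk p) C.functionField g = (placeOf k C hdim hK p hp).ord g := by
  haveI := isDVR_stalk k C hdim p hp
  have hcond : IsNoetherianRing (C.presheaf.stalk p) ∧ Ring.KrullDimLE 1 (C.presheaf.stalk p) ∧
      Nontrivial (C.presheaf.stalk p) ∧ IsFractionRing (C.presheaf.stalk p) C.functionField :=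
    ⟨inferInstance, inferInstance, inferInstance, inferInstance⟩
  unfold CycAlg.ordFrac
  rw [dif_pos hcond]
  change log (Ring.ordFrac (C.presheaf.stalk p) g) = _
  by_cases hg : g = 0
  · rw [hg, map_zero, log_zero, ord_zero]
  -- the case of an element of the local ring
  have key : ∀ a : C.presheaf.stalk p, a ≠ 0 →
      log (Ring.ordFrac (C.presheaf.stalk p)
        (algebraMap (C.presheaf.stalk p) C.functionField a)) =
      (placeOf k C hdim hK p hp).ord (algebraMap (C.presheaf.stalk p) C.functionField a) := by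
    intro a ha
    obtain ⟨ϖ, hϖ⟩ := IsDiscreteValuationRing.exists_irreducible (C.presheaf.stalk p)
    obtain ⟨n, u, rfl⟩ := IsDiscreteValuationRing.eq_unit_mul_pow_irreducible ha hϖ
    rw [map_mul, map_pow, map_mul, map_pow, Ring.ordFrac_of_isUnit u.isUnit,
      Ring.ordFrac_irreducible hϖ, one_mul, ← exp_nsmul, log_exp]
    rw [Place.ord, map_mul, map_pow, val_unit k C hdim hK p hp u.isUnit,
      val_irreducible k C hdim hK p hp hϖ, one_mul, ← exp_nsmul, log_exp]
    simp
  obtain ⟨a, b, hb, rfl⟩ := IsFractionRing.div_surjective (A := C.presheaf.stalk p) g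
  have hb0 : b ≠ 0 := nonZeroDivisors.ne_zero hb
  have ha0 : a ≠ 0 := by
    rintro rfl
    rw [map_zero, zero_div] at hg
    exact hg rfl
  have hinj := IsFractionRing.injective (C.presheaf.stalk p) C.functionField
  have ha' : algebraMap (C.presheaf.stalk p) C.functionField a ≠ 0 :=
    (map_ne_zero_iff _ hinj).2 ha0
  have hb' : algebraMap (C.presheaf.stalk p) C.functionField b ≠ 0 :=
    (map_ne_zero_iff _ hinj).2 hb0
  have hoa : Ring.ordFrac (C.presheaf.stalk p)
      (algebraMap (C.presheaf.stalk p) C.functionField a) ≠ 0 := by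
    rw [map_ne_zero]; exact ha'
  have hob : Ring.ordFrac (C.presheaf.stalk p)
      (algebraMap (C.presheaf.stalk p) C.functionField b) ≠ 0 := by
    rw [map_ne_zero]; exact hb'
  rw [div_eq_mul_inv, map_mul, map_inv₀, log_mul hoa (inv_ne_zero hob), log_inv, key a ha0,
    key b hb0, ord_mul _ ha' (inv_ne_zero hb'), ord_inv]

end scheme

end Groth.Agent.Lib.Helper34.LocSymLib
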