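import Groth.Agent.Lib.Helper34.LocSymLib.Value
import Groth.Prelude.Def_W4c1etcurveeff2PicMod

/-!
# The generalised Picard group with a reduced modulus (helper34)
-/

set_option autoImplicit false
set_option linter.style.haveILetI false
set_option linter.unusedSectionVars false

namespace Groth.Agent.Lib.Helper34.LocSymLib

universe u v

open AlgebraicGeometry CategoryTheory WithZero LocSym W4c1etcurveeff2
open Classical

variable {k : Type u} [Field k] [IsAlgClosed k] {X : Scheme.{u}} [IsIntegral X]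
  {c : X ⟶ Spec (CommRingCat.of k)} [IsProper c] [Smooth c] (hdim : topologicalKrullDim X = 1)

section isDivOf

theorem isDivOf_divOf {g : X.functionField} (hg : g ≠ 0) : IsDivOf c (divOf c hdim g) g :=
  ⟨hg, fun _ => rfl⟩

theorem isDivOf_eq_divOf {D : Pt c →₀ ℤ} {g : X.functionField} (h : IsDivOf c D g) :
    D = divOf c hdim g := by
  ext x
  rw [h.2 x, divOf_apply]

include hdim in
theorem isDivOf_one : IsDivOf c (0 : Pt c →₀ ℤ) (1 : X.functionField) :=
  ⟨one_ne_zero, fun x => by rw [Finsupp.zero_apply, ord_one hdim]⟩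

include hdim in
theorem isDivOf_mul {D E : Pt c →₀ ℤ} {g h : X.functionField} (hg : IsDivOf c D g)
    (hh : IsDivOf c E h) : IsDivOf c (D + E) (g * h) :=
  ⟨mul_ne_zero hg.1 hh.1, fun x => by
    rw [Finsupp.add_apply, hg.2 x, hh.2 x, ord_mul hdim x hg.1 hh.1]⟩

include hdim in
theorem isDivOf_inv {D : Pt c →₀ ℤ} {g : X.functionField} (hg : IsDivOf c D g) :
    IsDivOf c (-D) g⁻¹ :=
  ⟨inv_ne_zero hg.1, fun x => by rw [Finsupp.neg_apply, hg.2 x, ord_inv hdim]⟩

include hdim in
theorem isDivOf_div {D E : Pt c →₀ ℤ} {g h : X.functionField} (hg : IsDivOf c D g)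
    (hh : IsDivOf c E h) : IsDivOf c (D - E) (g / h) := by
  rw [sub_eq_add_neg, div_eq_mul_inv]
  exact isDivOf_mul hdim hg (isDivOf_inv hdim hh)

include hdim in
theorem isDivOf_pow {D : Pt c →₀ ℤ} {g : X.functionField} (hg : IsDivOf c D g) (n : ℕ) :
    IsDivOf c (n • D) (g ^ n) := by
  induction n with
  | zero => rw [zero_smul, pow_zero]; exact isDivOf_one hdim
  | succ n ih => rw [succ_nsmul, pow_succ]; exact isDivOf_mul hdim ih hg

include hdim in
theorem isDivOf_mul_constFun {D : Pt c →₀ ℤ} {g : X.functionField} (hg : IsDivOf c D g) {a : k}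
    (ha : a ≠ 0) : IsDivOf c D (g * constFun c a) :=
  ⟨mul_ne_zero hg.1 (by rw [Ne, map_eq_zero]; exact ha), fun x => by
    rw [hg.2 x, ord_mul_constFun hdim x g ha]⟩

include hdim in
theorem mem_principal_iff (D : Pt c →₀ ℤ) :
    D ∈ principal c ↔ ∃ g : X.functionField, IsDivOf c D g := by
  constructor
  · intro h
    unfold principal at h
    induction h using AddSubgroup.closure_induction with
    | mem D hD => exact hD
    | zero => exact ⟨1, isDivOf_one hdim⟩
    | add D E _ _ hD hE =>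
      obtain ⟨g, hg⟩ := hD
      obtain ⟨h, hh⟩ := hE
      exact ⟨g * h, isDivOf_mul hdim hg hh⟩
    | neg D _ hD =>
      obtain ⟨g, hg⟩ := hD
      exact ⟨g⁻¹, isDivOf_inv hdim hg⟩
  · intro h
    exact AddSubgroup.subset_closure h

include hdim in
theorem mem_principalMod_iff (m : Pt c →₀ ℕ) (D : divAway c m) :
    D ∈ principalMod c m ↔
      ∃ g : X.functionField, IsDivOf c (D : Pt c →₀ ℤ) g ∧ Cong1 m g := by
  constructor
  · intro h
    unfold principalMod at h
    induction h using AddSubgroup.closure_induction with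
    | mem D hD => exact hD
    | zero => exact ⟨1, isDivOf_one hdim, fun x _ => cong1At_one hdim m x⟩
    | add D E _ _ hD hE =>
      obtain ⟨g, hg, hg1⟩ := hD
      obtain ⟨h, hh, hh1⟩ := hE
      exact ⟨g * h, isDivOf_mul hdim hg hh, fun x hx => cong1At_mul hdim m (hg1 x hx) (hh1 x hx)⟩
    | neg D _ hD =>
      obtain ⟨g, hg, hg1⟩ := hD
      exact ⟨g⁻¹, isDivOf_inv hdim hg, fun x hx => cong1At_inv hdim m hx (hg1 x hx)⟩
  · intro h
    exact AddSubgroup.subset_closure h

end isDivOf

section main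

variable (m : Pt c →₀ ℕ)

theorem picModToPic_mk (D : divAway c m) :
    picModToPic c m (QuotientAddGroup.mk D) = (QuotientAddGroup.mk (D : Pt c →₀ ℤ) : Pic c) :=
  rfl

include hdim in
/-- moving lemma: every divisor is linearly equivalent to one away from `m` -/
theorem exists_divAway (D : Pt c →₀ ℤ) :
    ∃ (D' : divAway c m) (g : X.functionField), IsDivOf c (D - (D' : Pt c →₀ ℤ)) g := by
  obtain ⟨g, hg0, hg⟩ := exists_fun_ord hdim m.support (fun x => D x)
  have hmem : D - divOf c hdim g ∈ divAway c m := by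
    intro x hx
    rw [Finsupp.sub_apply, divOf_apply, hg x hx, sub_self]
  refine ⟨⟨_, hmem⟩, g, hg0, fun x => ?_⟩
  change (D - (D - divOf c hdim g)) x = _
  rw [sub_sub_cancel, divOf_apply]

include hdim in
theorem picModToPic_surjective : Function.Surjective (picModToPic c m) := by
  intro y
  obtain ⟨D, rfl⟩ := QuotientAddGroup.mk_surjective y
  obtain ⟨D', g, hg⟩ := exists_divAway hdim m D
  refine ⟨QuotientAddGroup.mk D', ?_⟩
  rw [picModToPic_mk]
  rw [QuotientAddGroup.eq_iff_sub_mem] 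
  have : (D' : Pt c →₀ ℤ) - D ∈ principal c := by
    rw [← neg_sub]
    exact (principal c).neg_mem ((mem_principal_iff hdim _).2 ⟨g, hg⟩)
  exact this

include hdim in
theorem picModToPic_eq_zero_iff (y : PicMod c m) :
    picModToPic c m y = 0 ↔
      ∃ (g : X.functionField) (D : divAway c m) (v : Pt c → kˣ),
        IsDivOf c (D : Pt c →₀ ℤ) g ∧ (∀ x ∈ m.support, HasValueAt x g (v x : k)) ∧
        y = (QuotientAddGroup.mk D : PicMod c m) := by
  constructor
  · intro h
    obtain ⟨D, rfl⟩ := QuotientAddGroup.mk_surjective y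
    rw [picModToPic_mk, QuotientAddGroup.eq_zero_iff, mem_principal_iff hdim] at h
    obtain ⟨g, hg⟩ := h
    have hex : ∀ x : Pt c, ∃ a : kˣ, x ∈ m.support → HasValueAt x g (a : k) := by
      intro x
      by_cases hx : x ∈ m.support
      · have h0 : x.ord g = 0 := by rw [← hg.2 x]; exact D.2 x hx
        obtain ⟨a, ha⟩ := exists_hv_of_ord_eq_zero hdim x hg.1 h0
        exact ⟨a, fun _ => (hasValueAt_iff hdim x g a).2 ha⟩
      · exact ⟨1, fun h => absurd h hx⟩
    choose v hv using hex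
    exact ⟨g, D, v, hg, fun x hx => hv x hx, rfl⟩
  · rintro ⟨g, D, v, hg, _, rfl⟩
    rw [picModToPic_mk, QuotientAddGroup.eq_zero_iff, mem_principal_iff hdim]
    exact ⟨g, hg⟩

include hdim in
/-- the class of `div g` (g a unit on the support) vanishes in `Pic_m` iff `g` has a constant
value on the support -/
theorem mk_eq_zero_iff (hm : ∀ x : Pt c, m x ≤ 1) {g : X.functionField} {D : divAway c m}
    (hg : IsDivOf c (D : Pt c →₀ ℤ) g) (v : Pt c → kˣ)
    (hv : ∀ x ∈ m.support, Pt.val hdim x (g - constFun c (v x : k)) < 1) :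
    (QuotientAddGroup.mk D : PicMod c m) = 0 ↔ ∃ a : kˣ, ∀ x ∈ m.support, v x = a := by
  rw [QuotientAddGroup.eq_zero_iff, mem_principalMod_iff hdim]
  constructor
  · rintro ⟨h, hh, hh1⟩
    have h0 : ∀ x : Pt c, x.ord (g / h) = 0 := by
      intro x
      rw [← (isDivOf_div hdim hg hh).2 x, sub_self, Finsupp.zero_apply]
    obtain ⟨a, ha0, ha⟩ := eq_constFun_of_ord_eq_zero hdim (div_ne_zero hg.1 hh.1) h0
    refine ⟨Units.mk0 a ha0, fun x hx => ?_⟩
    apply Units.ext
    rw [Units.val_mk0]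
    have h1 : Pt.val hdim x (h - constFun c 1) < 1 := hv_one_of_cong1At hdim x m hx (hh1 x hx)
    have h2 : Pt.val hdim x (constFun c a * h - constFun c (a * 1)) < 1 :=
      hv_mul hdim x (hv_const hdim x a) h1
    have h3 : g = constFun c a * h := by
      rw [← ha, div_mul_cancel₀ _ hh.1]
    rw [← h3, mul_one] at h2
    exact hv_unique hdim x (hv x hx) h2
  · rintro ⟨a, ha⟩
    refine ⟨g * constFun c (a : k)⁻¹, isDivOf_mul_constFun hdim hg (inv_ne_zero a.ne_zero), ?_⟩
    intro x hx
    apply cong1At_of_hv_one hdim x m (hm x)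
    have h1 := hv x hx
    rw [ha x hx] at h1
    have h2 := hv_mul hdim x h1 (hv_const hdim x (a : k)⁻¹)
    rwa [mul_inv_cancel₀ a.ne_zero] at h2

include hdim in
theorem exists_fun_picMod (hm : ∀ x : Pt c, m x ≤ 1) (v : Pt c → kˣ) :
    ∃ (g : X.functionField) (D : divAway c m),
      IsDivOf c (D : Pt c →₀ ℤ) g ∧ (∀ x ∈ m.support, HasValueAt x g (v x : k)) ∧
      ((QuotientAddGroup.mk D : PicMod c m) = 0 ↔ ∃ a : kˣ, ∀ x ∈ m.support, v x = a) := by
  obtain ⟨g, hg0, hg⟩ := exists_fun_values hdim m.support v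
  have hmem : divOf c hdim g ∈ divAway c m := by
    intro x hx
    rw [divOf_apply]
    exact hv_ord_eq_zero hdim x (v x).ne_zero (hg x hx)
  refine ⟨g, ⟨_, hmem⟩, isDivOf_divOf hdim hg0, fun x hx => (hasValueAt_iff hdim x g _).2 (hg x hx),
    ?_⟩
  exact mk_eq_zero_iff hdim m hm (D := ⟨_, hmem⟩) (isDivOf_divOf hdim hg0) v hg

include hdim in
/-- **S14182** -/
theorem picMod_exact (hm : ∀ x : Pt c, m x ≤ 1) :
    Function.Surjective (picModToPic c m) ∧
    (∀ y : PicMod c m, picModToPic c m y = 0 ↔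
      ∃ (g : X.functionField) (D : divAway c m) (v : Pt c → kˣ),
        IsDivOf c (D : Pt c →₀ ℤ) g ∧ (∀ x ∈ m.support, HasValueAt x g (v x : k)) ∧
        y = (QuotientAddGroup.mk D : PicMod c m)) ∧
    (∀ v : Pt c → kˣ, ∃ (g : X.functionField) (D : divAway c m),
        IsDivOf c (D : Pt c →₀ ℤ) g ∧ (∀ x ∈ m.support, HasValueAt x g (v x : k)) ∧
        ((QuotientAddGroup.mk D : PicMod c m) = 0 ↔ ∃ a : kˣ, ∀ x ∈ m.support, v x = a)) :=
  ⟨picModToPic_surjective hdim m, picModToPic_eq_zero_iff hdim m, exists_fun_picMod hdim m hm⟩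

end main

end Groth.Agent.Lib.Helper34.LocSymLib
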