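import Groth.Agent.Lib.Helper34.LocSymLib.PicMod
import Mathlib.RingTheory.RootsOfUnity.AlgebraicallyClosed
import Mathlib.FieldTheory.IsAlgClosed.Basic

/-!
# Torsion of the generalised Picard group with a reduced modulus (helper34)
-/

set_option autoImplicit false
set_option linter.style.haveILetI false
set_option linter.unusedSectionVars false

namespace Groth.Agent.Lib.Helper34.LocSymLib

universe u v

open AlgebraicGeometry CategoryTheory WithZero LocSym W4c1etcurveeff2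
open Classical

variable {k : Type u} [Field k] [IsAlgClosed k] {X : Scheme.{u}} [IsIntegral X]
  {c : X ⟶ Spec (CommRingCat.of k)} [IsProper c] [Smooth c] (hdim : topologicalKrullDim X = 1)

variable (m : Pt c →₀ ℕ)

include hdim in
/-- a function with prescribed nonzero values on the support, with its divisor -/
theorem exists_fun_hv (v : Pt c → kˣ) :
    ∃ (g : X.functionField) (D : divAway c m), IsDivOf c (D : Pt c →₀ ℤ) g ∧
      ∀ x ∈ m.support, Pt.val hdim x (g - constFun c (v x : k)) < 1 := by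
  obtain ⟨g, hg0, hg⟩ := exists_fun_values hdim m.support v
  have hmem : divOf c hdim g ∈ divAway c m := by
    intro x hx
    rw [divOf_apply]
    exact hv_ord_eq_zero hdim x (v x).ne_zero (hg x hx)
  exact ⟨g, ⟨_, hmem⟩, isDivOf_divOf hdim hg0, hg⟩

include hdim in
/-- values exist for a function whose divisor is away from `m` -/
theorem exists_values_of_isDivOf {g : X.functionField} {D : divAway c m}
    (hg : IsDivOf c (D : Pt c →₀ ℤ) g) :
    ∃ v : Pt c → kˣ, ∀ x ∈ m.support, Pt.val hdim x (g - constFun c (v x : k)) < 1 := by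
  have hex : ∀ x : Pt c, ∃ a : kˣ, x ∈ m.support →
      Pt.val hdim x (g - constFun c (a : k)) < 1 := by
    intro x
    by_cases hx : x ∈ m.support
    · have h0 : x.ord g = 0 := by rw [← hg.2 x]; exact D.2 x hx
      obtain ⟨a, ha⟩ := exists_hv_of_ord_eq_zero hdim x hg.1 h0
      exact ⟨a, fun _ => ha⟩
    · exact ⟨1, fun h => absurd h hx⟩
  choose v hv using hex
  exact ⟨v, hv⟩

include hdim in
theorem mk_eq_mk_iff (hm : ∀ x : Pt c, m x ≤ 1) {g h : X.functionField} {D E : divAway c m}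
    (hg : IsDivOf c (D : Pt c →₀ ℤ) g) (hh : IsDivOf c (E : Pt c →₀ ℤ) h) (v w : Pt c → kˣ)
    (hv : ∀ x ∈ m.support, Pt.val hdim x (g - constFun c (v x : k)) < 1)
    (hw : ∀ x ∈ m.support, Pt.val hdim x (h - constFun c (w x : k)) < 1) :
    (QuotientAddGroup.mk D : PicMod c m) = QuotientAddGroup.mk E ↔
      ∃ a : kˣ, ∀ x ∈ m.support, v x / w x = a := by
  rw [← sub_eq_zero, ← QuotientAddGroup.mk_sub]
  have hgh : IsDivOf c ((D - E : divAway c m) : Pt c →₀ ℤ) (g / h) := by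
    rw [AddSubgroup.coe_sub]
    exact isDivOf_div hdim hg hh
  refine mk_eq_zero_iff hdim m hm hgh (fun x => v x / w x) ?_
  intro x hx
  rw [Units.val_div_eq_div_val]
  exact hv_div hdim x (w x).ne_zero (hv x hx) (hw x hx)

include hdim in
theorem nsmul_mk_eq_zero_iff (hm : ∀ x : Pt c, m x ≤ 1) {g : X.functionField} {D : divAway c m}
    (hg : IsDivOf c (D : Pt c →₀ ℤ) g) (v : Pt c → kˣ)
    (hv : ∀ x ∈ m.support, Pt.val hdim x (g - constFun c (v x : k)) < 1) (n : ℕ) :
    n • (QuotientAddGroup.mk D : PicMod c m) = 0 ↔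
      ∃ a : kˣ, ∀ x ∈ m.support, v x ^ n = a := by
  rw [← QuotientAddGroup.mk_nsmul]
  have hgn : IsDivOf c ((n • D : divAway c m) : Pt c →₀ ℤ) (g ^ n) := by
    rw [AddSubgroup.coe_nsmul]
    exact isDivOf_pow hdim hg n
  refine mk_eq_zero_iff hdim m hm hgn (fun x => v x ^ n) ?_
  intro x hx
  rw [Units.val_pow_eq_pow_val]
  exact hv_pow hdim x (hv x hx) n

include hdim in
/-- **n-torsion classes of `Pic` lift to n-torsion classes of `Pic_m`.** -/
theorem exists_torsion_lift (hm : ∀ x : Pt c, m x ≤ 1) (n : ℕ) (hn : 1 ≤ n) (y : Pic c)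
    (hy : n • y = 0) : ∃ x : PicMod c m, n • x = 0 ∧ picModToPic c m x = y := by
  obtain ⟨x₀, rfl⟩ := picModToPic_surjective hdim m y
  obtain ⟨D₀, rfl⟩ := QuotientAddGroup.mk_surjective x₀
  rw [picModToPic_mk, ← QuotientAddGroup.mk_nsmul, QuotientAddGroup.eq_zero_iff,
    mem_principal_iff hdim] at hy
  obtain ⟨g, hg⟩ := hy
  have hg' : IsDivOf c ((n • D₀ : divAway c m) : Pt c →₀ ℤ) g := by
    rw [AddSubgroup.coe_nsmul]; exact hg
  obtain ⟨b, hb⟩ := exists_values_of_isDivOf hdim m hg'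
  have hr : ∀ x : Pt c, ∃ r : kˣ, r ^ n = (b x)⁻¹ := by
    intro x
    obtain ⟨z, hz⟩ := IsAlgClosed.exists_pow_nat_eq (((b x)⁻¹ : kˣ) : k) (Nat.lt_of_lt_of_le
      Nat.zero_lt_one hn)
    have hz0 : z ≠ 0 := by
      rintro rfl
      rw [zero_pow (by omega)] at hz
      exact (b x)⁻¹.ne_zero hz.symm
    refine ⟨Units.mk0 z hz0, ?_⟩
    apply Units.ext
    rw [Units.val_pow_eq_pow_val, Units.val_mk0, hz]
  choose r hr using hr
  obtain ⟨h, E, hh, hhv⟩ := exists_fun_hv hdim m r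
  refine ⟨QuotientAddGroup.mk (D₀ + E), ?_, ?_⟩
  · rw [← QuotientAddGroup.mk_nsmul]
    have hgh : IsDivOf c ((n • (D₀ + E) : divAway c m) : Pt c →₀ ℤ) (g * h ^ n) := by
      rw [smul_add, AddSubgroup.coe_add, AddSubgroup.coe_nsmul, AddSubgroup.coe_nsmul]
      exact isDivOf_mul hdim hg (isDivOf_pow hdim hh n)
    rw [mk_eq_zero_iff hdim m hm hgh (fun x => b x * r x ^ n)]
    · refine ⟨1, fun x _ => ?_⟩
      rw [hr x, mul_inv_cancel]
    · intro x hx
      rw [Units.val_mul, Units.val_pow_eq_pow_val]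
      exact hv_mul hdim x (hb x hx) (hv_pow hdim x (hhv x hx) n)
  · rw [QuotientAddGroup.mk_add, map_add]
    have : picModToPic c m (QuotientAddGroup.mk E) = 0 := by
      rw [picModToPic_mk, QuotientAddGroup.eq_zero_iff, mem_principal_iff hdim]
      exact ⟨h, hh⟩
    rw [this, add_zero]

section count

include hdim in
theorem card_torsKer_of_support_eq_empty (hS : m.support = ∅) (n : ℕ) :
    Nat.card {x : PicMod c m // n • x = 0 ∧ picModToPic c m x = 0} = 1 := by
  have key : ∀ a : {x : PicMod c m // n • x = 0 ∧ picModToPic c m x = 0}, a.1 = 0 := by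
    intro a
    obtain ⟨g, D, v, hg, _, ha⟩ := (picModToPic_eq_zero_iff hdim m a.1).1 a.2.2
    rw [ha, QuotientAddGroup.eq_zero_iff, mem_principalMod_iff hdim]
    exact ⟨g, hg, fun x hx => by rw [hS] at hx; exact absurd hx (Finset.notMem_empty x)⟩
  rw [Nat.card_eq_one_iff_unique]
  refine ⟨⟨fun a b => Subtype.ext ((key a).trans (key b).symm)⟩, ⟨⟨0, ?_, map_zero _⟩⟩⟩
  exact smul_zero n

variable (x₀ : Pt c) (n : ℕ)

/-- the values attached to a family of roots of unity -/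
noncomputable def zetaVal (ζ : ↥(m.support.erase x₀) → rootsOfUnity n k) : Pt c → kˣ :=
  fun x => if hx : x ∈ m.support.erase x₀ then ((ζ ⟨x, hx⟩ : rootsOfUnity n k) : kˣ) else 1

theorem zetaVal_of_mem (ζ : ↥(m.support.erase x₀) → rootsOfUnity n k) {x : Pt c}
    (hx : x ∈ m.support.erase x₀) : zetaVal m x₀ n ζ x = ((ζ ⟨x, hx⟩ : rootsOfUnity n k) : kˣ) := by
  unfold zetaVal
  rw [dif_pos hx]

theorem zetaVal_base (ζ : ↥(m.support.erase x₀) → rootsOfUnity n k) :
    zetaVal m x₀ n ζ x₀ = 1 := by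
  unfold zetaVal
  rw [dif_neg (Finset.notMem_erase x₀ _)]

theorem zetaVal_pow (ζ : ↥(m.support.erase x₀) → rootsOfUnity n k) (x : Pt c) :
    zetaVal m x₀ n ζ x ^ n = 1 := by
  unfold zetaVal
  by_cases hx : x ∈ m.support.erase x₀
  · rw [dif_pos hx]
    exact (mem_rootsOfUnity n _).1 (ζ ⟨x, hx⟩).2
  · rw [dif_neg hx, one_pow]

/-- the chosen function with values `zetaVal` -/
noncomputable def zetaFun (ζ : ↥(m.support.erase x₀) → rootsOfUnity n k) : X.functionField :=
  Classical.choose (exists_fun_hv hdim m (zetaVal m x₀ n ζ))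

/-- its divisor -/
noncomputable def zetaDiv (ζ : ↥(m.support.erase x₀) → rootsOfUnity n k) : divAway c m :=
  Classical.choose (Classical.choose_spec (exists_fun_hv hdim m (zetaVal m x₀ n ζ)))

theorem zeta_spec (ζ : ↥(m.support.erase x₀) → rootsOfUnity n k) :
    IsDivOf c (zetaDiv hdim m x₀ n ζ : Pt c →₀ ℤ) (zetaFun hdim m x₀ n ζ) ∧
      ∀ x ∈ m.support, Pt.val hdim x (zetaFun hdim m x₀ n ζ -
        constFun c (zetaVal m x₀ n ζ x : k)) < 1 :=
  Classical.choose_spec (Classical.choose_spec (exists_fun_hv hdim m (zetaVal m x₀ n ζ)))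

/-- the map from families of roots of unity to the torsion classes dying in `Pic` -/
noncomputable def zetaMap (hm : ∀ x : Pt c, m x ≤ 1)
    (ζ : ↥(m.support.erase x₀) → rootsOfUnity n k) :
    {x : PicMod c m // n • x = 0 ∧ picModToPic c m x = 0} :=
  ⟨QuotientAddGroup.mk (zetaDiv hdim m x₀ n ζ), by
    constructor
    · rw [nsmul_mk_eq_zero_iff hdim m hm (zeta_spec hdim m x₀ n ζ).1 _ (zeta_spec hdim m x₀ n ζ).2]
      exact ⟨1, fun x _ => zetaVal_pow m x₀ n ζ x⟩
    · rw [picModToPic_mk, QuotientAddGroup.eq_zero_iff, mem_principal_iff hdim]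
      exact ⟨_, (zeta_spec hdim m x₀ n ζ).1⟩⟩

theorem zetaMap_injective (hm : ∀ x : Pt c, m x ≤ 1) (hx₀ : x₀ ∈ m.support) :
    Function.Injective (zetaMap hdim m x₀ n hm) := by
  intro ζ ζ' h
  have h1 : (QuotientAddGroup.mk (zetaDiv hdim m x₀ n ζ) : PicMod c m) =
      QuotientAddGroup.mk (zetaDiv hdim m x₀ n ζ') := congrArg Subtype.val h
  rw [mk_eq_mk_iff hdim m hm (zeta_spec hdim m x₀ n ζ).1 (zeta_spec hdim m x₀ n ζ').1 _ _
    (zeta_spec hdim m x₀ n ζ).2 (zeta_spec hdim m x₀ n ζ').2] at h1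
  obtain ⟨a, ha⟩ := h1
  have ha1 : a = 1 := by
    have := ha x₀ hx₀
    rw [zetaVal_base, zetaVal_base, div_one] at this
    exact this.symm
  funext ⟨x, hx⟩
  have h2 := ha x (Finset.mem_of_mem_erase hx)
  rw [ha1, div_eq_one, zetaVal_of_mem m x₀ n ζ hx, zetaVal_of_mem m x₀ n ζ' hx] at h2
  exact Subtype.ext h2

theorem zetaMap_surjective (hm : ∀ x : Pt c, m x ≤ 1) (hx₀ : x₀ ∈ m.support) :
    Function.Surjective (zetaMap hdim m x₀ n hm) := by
  rintro ⟨y, hy1, hy2⟩
  obtain ⟨g, D, _, hg, _, rfl⟩ := (picModToPic_eq_zero_iff hdim m y).1 hy2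
  obtain ⟨v, hv⟩ := exists_values_of_isDivOf hdim m hg
  obtain ⟨a, ha⟩ := (nsmul_mk_eq_zero_iff hdim m hm hg v hv n).1 hy1
  have hroot : ∀ x ∈ m.support, v x / v x₀ ∈ rootsOfUnity n k := by
    intro x hx
    rw [mem_rootsOfUnity, div_pow, ha x hx, ha x₀ hx₀, div_self']
  refine ⟨fun x => ⟨v x.1 / v x₀, hroot x.1 (Finset.mem_of_mem_erase x.2)⟩, ?_⟩
  apply Subtype.ext
  change (QuotientAddGroup.mk (zetaDiv hdim m x₀ n _) : PicMod c m) = QuotientAddGroup.mk D
  rw [mk_eq_mk_iff hdim m hm (zeta_spec hdim m x₀ n _).1 hg _ v (zeta_spec hdim m x₀ n _).2 hv]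
  refine ⟨(v x₀)⁻¹, fun x hx => ?_⟩
  by_cases hxx : x = x₀
  · rw [hxx, zetaVal_base, one_div]
  · have hx' : x ∈ m.support.erase x₀ := Finset.mem_erase.2 ⟨hxx, hx⟩
    rw [zetaVal_of_mem m x₀ n _ hx']
    change v x / v x₀ / v x = (v x₀)⁻¹
    rw [div_div, mul_comm, ← div_div, div_self', one_div]

include hdim in
/-- **The count of `n`-torsion classes of `Pic_m` dying in `Pic`.** -/
theorem card_torsKer (hm : ∀ x : Pt c, m x ≤ 1) (n : ℕ) (hn : 1 ≤ n) (hnk : (n : k) ≠ 0) :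
    Nat.card {x : PicMod c m // n • x = 0 ∧ picModToPic c m x = 0} =
      n ^ (m.support.card - 1) := by
  by_cases hS : m.support = ∅
  · rw [card_torsKer_of_support_eq_empty hdim m hS n, hS, Finset.card_empty, Nat.zero_sub,
      pow_zero]
  · obtain ⟨x₀, hx₀⟩ := Finset.nonempty_iff_ne_empty.2 hS
    haveI : NeZero (n : k) := ⟨hnk⟩
    haveI : NeZero n := ⟨by omega⟩
    have e := Equiv.ofBijective (zetaMap hdim m x₀ n hm)
      ⟨zetaMap_injective hdim m x₀ n hm hx₀, zetaMap_surjective hdim m x₀ n hm hx₀⟩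
    rw [← Nat.card_congr e, Nat.card_fun, HasEnoughRootsOfUnity.natCard_rootsOfUnity k n,
      Nat.card_eq_finsetCard, Finset.card_erase_of_mem hx₀]

end count

end Groth.Agent.Lib.Helper34.LocSymLib
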