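import Groth.Agent.Lib.Helper34.LocSymLib.Ord

/-!
# Rational points ↔ places, over an algebraically closed field (helper34)
-/

set_option autoImplicit false
set_option linter.style.haveILetI false

namespace Groth.Agent.Lib.Helper34.LocSymLib

universe u

open AlgebraicGeometry CategoryTheory FunFld IsLocalRing Groth.Agent.Lib.Helper88.FF
open Groth.Agent.Lib.Helper34.Curve Groth.Agent.Lib.Helper34.CurveAC WithZero

variable {k : Type u} [Field k] [IsAlgClosed k] {X : Scheme.{u}} [IsIntegral X]
  {c : X ⟶ Spec (CommRingCat.of k)} [IsProper c] [Smooth c] (hdim : topologicalKrullDim X = 1)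

include hdim in
theorem isFF : letI := overInst c; IsFunctionField k X.functionField := by
  letI := overInst c
  haveI : IsProper (X ↘ Spec (CommRingCat.of k)) := ‹IsProper c›
  exact isFunctionField_of_isAlgClosed k X hdim

/-- the place of the function field attached to a rational point -/
noncomputable def Pt.place (x : LocSym.Pt c) : letI := overInst c; Place k X.functionField :=
  letI := overInst c
  haveI : IsProper (X ↘ Spec (CommRingCat.of k)) := ‹IsProper c›
  haveI : Smooth (X ↘ Spec (CommRingCat.of k)) := ‹Smooth c›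
  placeOf k X hdim (isFF hdim) x.pt (Pt.pt_ne_genericPoint hdim x)

theorem Pt.ord_eq (x : LocSym.Pt c) (g : X.functionField) :
    letI := overInst c
    x.ord g = (Pt.place hdim x).ord g := by
  letI := overInst c
  haveI : IsProper (X ↘ Spec (CommRingCat.of k)) := ‹IsProper c›
  haveI : Smooth (X ↘ Spec (CommRingCat.of k)) := ‹Smooth c›
  exact ordFrac_eq k X hdim (isFF hdim) x.pt (Pt.pt_ne_genericPoint hdim x) g

theorem Pt.place_injective :
    letI := overInst c
    Function.Injective (Pt.place hdim : LocSym.Pt c → Place k X.functionField) := by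
  letI := overInst c
  haveI : IsProper (X ↘ Spec (CommRingCat.of k)) := ‹IsProper c›
  haveI : Smooth (X ↘ Spec (CommRingCat.of k)) := ‹Smooth c›
  intro x y h
  exact Pt.eq_of_pt_eq (placeOf_injective k X hdim (isFF hdim) _ _ h)

theorem constFun_eq (a : k) :
    letI := overInst c
    LocSym.constFun c a = algebraMap k X.functionField a := rfl

section surj

variable (k) (X)
variable [X.Over (Spec (CommRingCat.of k))] [Smooth (X ↘ Spec (CommRingCat.of k))]
  [IsProper (X ↘ Spec (CommRingCat.of k))] (hK : IsFunctionField k X.functionField)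

/-- the "value at `p`" homomorphism `O_{X,p} → k` at a closed point `p` -/
noncomputable def evalHom (p : X) (hp : p ≠ genericPoint X) : X.presheaf.stalk p →+* k :=
  ((RingEquiv.ofBijective (algebraMap k (IsLocalRing.ResidueField (placeOf k X hdim hK p hp).O))
    ⟨(algebraMap k _).injective, algebraMap_residue_surjective hK _⟩).symm : _ →+* k).comp
    ((IsLocalRing.residue (placeOf k X hdim hK p hp).O).comp
      (stalkEquiv k X hdim hK p hp : _ →+* _))

lemma evalHom_stalkMap (p : X) (hp : p ≠ genericPoint X) (a : k) :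
    evalHom k X hdim hK p hp (Curv2.stalkMap k X p a) = a := by
  unfold evalHom
  simp only [RingHom.comp_apply, RingHom.coe_coe]
  rw [RingEquiv.symm_apply_eq]
  change IsLocalRing.residue _ _ = IsLocalRing.residue _ (algebraMap k (placeOf k X hdim hK p hp).O a)
  congr 1
  apply Subtype.ext
  change algebraMap (X.presheaf.stalk p) X.functionField (Curv2.stalkMap k X p a) =
    algebraMap k X.functionField a
  exact (IsScalarTower.algebraMap_apply k (X.presheaf.stalk p) X.functionField a).symm

instance isLocalHom_evalHom (p : X) (hp : p ≠ genericPoint X) :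
    IsLocalHom (evalHom k X hdim hK p hp) := by
  constructor
  intro a ha
  by_contra hnu
  have h1 : ¬ IsUnit (stalkEquiv k X hdim hK p hp a) := fun h =>
    hnu ((isUnit_map_iff (stalkEquiv k X hdim hK p hp) a).1 h)
  have h2 : IsLocalRing.residue _ (stalkEquiv k X hdim hK p hp a) = 0 :=
    (IsLocalRing.residue_eq_zero_iff _).2 h1
  have h3 : evalHom k X hdim hK p hp a = 0 := by
    unfold evalHom
    simp only [RingHom.comp_apply, RingHom.coe_coe]
    rw [h2, map_zero]
  rw [h3] at ha
  exact not_isUnit_zero ha

end surj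

theorem Pt.place_surjective :
    letI := overInst c
    Function.Surjective (Pt.place hdim : LocSym.Pt c → Place k X.functionField) := by
  letI := overInst c
  haveI : IsProper (X ↘ Spec (CommRingCat.of k)) := ‹IsProper c›
  haveI : Smooth (X ↘ Spec (CommRingCat.of k)) := ‹Smooth c›
  intro P
  have hK := isFF (c := c) hdim
  obtain ⟨p, hp⟩ : ∃ p : X, p = center k X P := ⟨_, rfl⟩
  have hpg : p ≠ genericPoint X := by rw [hp]; exact center_ne_genericPoint k X P
  obtain ⟨φ, hφ⟩ : ∃ φ : X.presheaf.stalk p ⟶ CommRingCat.of k,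
      φ = CommRingCat.ofHom (evalHom k X hdim hK p hpg) := ⟨_, rfl⟩
  haveI : IsLocalHom φ.hom := by rw [hφ]; exact isLocalHom_evalHom k X hdim hK p hpg
  have hsec : (Spec.map φ ≫ X.fromSpecStalk p) ≫ c = 𝟙 _ := by
    rw [Category.assoc]
    have h1 : X.fromSpecStalk p ≫ c = Spec.map (CommRingCat.ofHom (Curv2.stalkMap k X p)) :=
      fromSpecStalk_comp k X p
    rw [h1, ← Spec.map_comp]
    have h2 : CommRingCat.ofHom (Curv2.stalkMap k X p) ≫ φ = 𝟙 _ := by
      ext a
      rw [hφ]
      exact evalHom_stalkMap k X hdim hK p hpg a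
    rw [h2, Spec.map_id]
  have hpt : LocSym.Pt.pt (⟨Spec.map φ ≫ X.fromSpecStalk p, hsec⟩ : LocSym.Pt c) = p := by
    change (Spec.map φ ≫ X.fromSpecStalk p).base (closedPoint k) = p
    rw [Scheme.Hom.comp_base, TopCat.comp_app]
    have h1 : (Spec.map φ).base (closedPoint k) = closedPoint (X.presheaf.stalk p) :=
      Spec_closedPoint (f := φ)
    rw [h1]
    exact Scheme.fromSpecStalk_closedPoint
  refine ⟨⟨Spec.map φ ≫ X.fromSpecStalk p, hsec⟩, ?_⟩
  have key : ∀ (q : X) (hq : q ≠ genericPoint X), q = center k X P →
      placeOf k X hdim hK q hq = P := by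
    intro q hq hqc
    subst hqc
    exact placeOf_center k X hdim hK P
  exact key _ _ (hpt.trans hp)

end Groth.Agent.Lib.Helper34.LocSymLib
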