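import Groth.Prelude.Def_W4bk6serrecg25LocSym
import Groth.Agent.Lib.Helper34.CurveAC.Places
import Groth.Agent.Lib.Helper88.FunFldLinSeries2

/-!
# Rational points of a smooth proper curve over an algebraically closed field and places of its
function field (helper34) — translation layer for the `LocSym` statements.
-/

set_option autoImplicit false
set_option linter.style.haveILetI false

namespace Groth.Agent.Lib.Helper34.LocSymLib

universe u

open AlgebraicGeometry CategoryTheory FunFld IsLocalRing Groth.Agent.Lib.Helper88.FF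
open Groth.Agent.Lib.Helper34.Curve Groth.Agent.Lib.Helper34.CurveAC

variable {k : Type u} [Field k] {X : Scheme.{u}} (c : X ⟶ Spec (CommRingCat.of k))

/-- the `Over` structure given by `c` -/
@[reducible] def overInst : X.Over (Spec (CommRingCat.of k)) := ⟨c⟩

section general

variable {c}

/-- the local homomorphism `O_{X,x.pt} → k` attached to a rational point -/
noncomputable def Pt.stalkTo (x : LocSym.Pt c) : X.presheaf.stalk x.pt ⟶ CommRingCat.of k :=
  Scheme.stalkClosedPointTo x.1

instance (x : LocSym.Pt c) : IsLocalHom (Pt.stalkTo x).hom :=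
  Scheme.isLocalHom_stalkClosedPointTo' x.1

lemma Pt.spec_stalkTo (x : LocSym.Pt c) :
    Spec.map (Pt.stalkTo x) ≫ X.fromSpecStalk x.pt = x.1 :=
  Scheme.Spec_stalkClosedPointTo_fromSpecStalk x.1

/-- `stalkTo` is a retraction of the structure map `k → O_{X,x.pt}`. -/
lemma Pt.stalkTo_comp (x : LocSym.Pt c) :
    (Scheme.ΓSpecIso (CommRingCat.of k)).inv ≫ c.appTop ≫ X.presheaf.germ ⊤ x.pt trivial ≫
      Pt.stalkTo x = 𝟙 _ := by
  have h1 : X.presheaf.germ ⊤ x.pt trivial ≫ Pt.stalkTo x = x.1.app ⊤ ≫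
      ((Spec (CommRingCat.of k)).presheaf.mapIso (eqToIso
        (Scheme.preimage_eq_top_of_closedPoint_mem x.1 (U := ⊤) trivial).symm).op ≪≫
        Scheme.ΓSpecIso (CommRingCat.of k)).hom :=
    Scheme.germ_stalkClosedPointTo x.1 ⊤ trivial
  have h2 : c.appTop ≫ x.1.appTop = 𝟙 _ := by
    rw [← Scheme.Hom.comp_appTop, x.2]
    rfl
  rw [h1]
  have h3 : ((Spec (CommRingCat.of k)).presheaf.mapIso (eqToIso
        (Scheme.preimage_eq_top_of_closedPoint_mem x.1 (U := ⊤) trivial).symm).op ≪≫
        Scheme.ΓSpecIso (CommRingCat.of k)).hom = (Scheme.ΓSpecIso (CommRingCat.of k)).hom := by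
    simp
  rw [h3]
  change _ ≫ c.appTop ≫ x.1.appTop ≫ _ = _
  rw [reassoc_of% h2, Iso.inv_hom_id]

lemma Pt.stalkTo_stalkMap (x : LocSym.Pt c) (a : k) :
    letI := overInst c
    (Pt.stalkTo x).hom (Curv2.stalkMap k X x.pt a) = a := by
  have := congrArg (fun f => f.hom a) (Pt.stalkTo_comp x)
  exact this

/-- a local homomorphism to a field kills the maximal ideal -/
lemma map_eq_zero_of_mem_maximalIdeal {R F : Type*} [CommRing R] [IsLocalRing R] [Field F]
    (φ : R →+* F) [IsLocalHom φ] {a : R} (ha : a ∈ maximalIdeal R) : φ a = 0 := by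
  by_contra h
  have hu : IsUnit (φ a) := isUnit_iff_ne_zero.2 h
  exact ha (IsLocalHom.map_nonunit a hu)

/-- a local homomorphism to a field: the kernel is the maximal ideal -/
lemma mem_maximalIdeal_of_map_eq_zero {R F : Type*} [CommRing R] [IsLocalRing R] [Field F]
    (φ : R →+* F) {a : R} (ha : φ a = 0) : a ∈ maximalIdeal R := by
  intro hu
  have := hu.map φ
  rw [ha] at this
  exact not_isUnit_zero this

lemma retraction_unique (p : X) (φ ψ : X.presheaf.stalk p ⟶ CommRingCat.of k)
    [IsLocalHom φ.hom] [IsLocalHom ψ.hom]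
    (hφ : letI := overInst c; ∀ a, φ.hom (Curv2.stalkMap k X p a) = a)
    (hψ : letI := overInst c; ∀ a, ψ.hom (Curv2.stalkMap k X p a) = a) : φ = ψ := by
  letI := overInst c
  ext a
  have h1 : φ.hom (a - Curv2.stalkMap k X p (φ.hom a)) = 0 := by
    rw [map_sub, hφ, sub_self]
  have h2 := mem_maximalIdeal_of_map_eq_zero φ.hom h1
  have h3 := map_eq_zero_of_mem_maximalIdeal ψ.hom h2
  rw [map_sub, hψ, sub_eq_zero] at h3
  exact h3.symm

/-- A rational point is determined by the underlying point of the scheme. -/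
theorem Pt.eq_of_pt_eq {x y : LocSym.Pt c} (h : x.pt = y.pt) : x = y := by
  letI := overInst c
  have key : ∀ (p q : X) (_ : p = q) (φ : X.presheaf.stalk p ⟶ CommRingCat.of k)
      (ψ : X.presheaf.stalk q ⟶ CommRingCat.of k) [IsLocalHom φ.hom] [IsLocalHom ψ.hom],
      (∀ a, φ.hom (Curv2.stalkMap k X p a) = a) → (∀ a, ψ.hom (Curv2.stalkMap k X q a) = a) →
      Spec.map φ ≫ X.fromSpecStalk p = Spec.map ψ ≫ X.fromSpecStalk q := by
    intro p q hpq
    subst hpq
    intro φ ψ _ _ hφ hψ
    rw [retraction_unique (c := c) p φ ψ hφ hψ]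
  apply Subtype.ext
  rw [← Pt.spec_stalkTo x, ← Pt.spec_stalkTo y]
  exact key _ _ h _ _ (Pt.stalkTo_stalkMap x) (Pt.stalkTo_stalkMap y)

theorem Pt.pt_injective : Function.Injective (LocSym.Pt.pt : LocSym.Pt c → X) :=
  fun _ _ h => Pt.eq_of_pt_eq h

end general

section curve

variable {c}
variable [IsIntegral X]

lemma Pt.isClosed_pt [IsSeparated c] (x : LocSym.Pt c) : IsClosed ({x.pt} : Set X) := by
  haveI : IsClosedImmersion (x.1 ≫ c) := by rw [x.2]; infer_instance
  haveI : IsClosedImmersion x.1 := IsClosedImmersion.of_comp x.1 c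
  have h := x.1.isClosedEmbedding.isClosed_range
  convert h
  ext p
  constructor
  · rintro rfl
    exact ⟨closedPoint k, rfl⟩
  · rintro ⟨q, rfl⟩
    have : q = closedPoint k := by
      haveI : Subsingleton (PrimeSpectrum k) := inferInstance
      exact Subsingleton.elim (α := PrimeSpectrum k) q (closedPoint k)
    rw [this]
    rfl

variable [IsProper c] [Smooth c] (hdim : topologicalKrullDim X = 1)

include hdim in
lemma Pt.pt_ne_genericPoint (x : LocSym.Pt c) : x.pt ≠ genericPoint X := by
  letI := overInst c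
  haveI : IsProper (X ↘ Spec (CommRingCat.of k)) := ‹IsProper c›
  exact (ne_genericPoint_iff k X hdim).2 (Pt.isClosed_pt x)

end curve

end Groth.Agent.Lib.Helper34.LocSymLib
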