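import Groth.Agent.Lib.Helper34.LocSymLib.Interface

/-!
# Moduli and local symbols (Serre, Groupes algébriques et corps de classes, ch. III) (helper34)
-/

set_option autoImplicit false
set_option linter.style.haveILetI false

namespace Groth.Agent.Lib.Helper34.LocSymLib

universe u v

open AlgebraicGeometry CategoryTheory WithZero LocSym

variable {k : Type u} [Field k] [IsAlgClosed k] {X : Scheme.{u}} [IsIntegral X]
  {c : X ⟶ Spec (CommRingCat.of k)} [IsProper c] [Smooth c] (hdim : topologicalKrullDim X = 1)

section basic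

theorem cong1At_iff (m : Pt c →₀ ℕ) (x : Pt c) (g : X.functionField) :
    Cong1At m x g ↔ Pt.val hdim x (1 - g) ≤ exp (-(m x : ℤ)) := by
  unfold Cong1At
  by_cases hg : g = 1
  · simp [hg]
  · have h0 : (1 : X.functionField) - g ≠ 0 := sub_ne_zero.2 (Ne.symm hg)
    have hv : Pt.val hdim x (1 - g) ≠ 0 := (Valuation.ne_zero_iff _).2 h0
    rw [Pt.ord_eq_val hdim, ← log_le_iff_le_exp hv]
    constructor
    · rintro (h | h)
      · exact absurd h hg
      · linarith
    · intro h
      right
      linarith

theorem hasValueAt_iff (x : Pt c) (g : X.functionField) (a : k) :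
    HasValueAt x g a ↔ Pt.val hdim x (g - constFun c a) < 1 := by
  unfold HasValueAt
  by_cases hg : g = constFun c a
  · simp [hg]
  · have h0 : g - constFun c a ≠ 0 := sub_ne_zero.2 hg
    have hv : Pt.val hdim x (g - constFun c a) ≠ 0 := (Valuation.ne_zero_iff _).2 h0
    rw [Pt.ord_eq_val hdim, ← exp_zero, ← log_lt_iff_lt_exp hv]
    constructor
    · rintro (h | h)
      · exact absurd h hg
      · linarith
    · intro h
      right
      linarith

theorem val_eq_exp_neg_ord (x : Pt c) {g : X.functionField} (hg : g ≠ 0) :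
    Pt.val hdim x g = exp (-x.ord g) := by
  have hv : Pt.val hdim x g ≠ 0 := (Valuation.ne_zero_iff _).2 hg
  rw [Pt.ord_eq_val hdim, neg_neg, exp_log hv]

include hdim in
theorem ord_mul (x : Pt c) {g h : X.functionField} (hg : g ≠ 0) (hh : h ≠ 0) :
    x.ord (g * h) = x.ord g + x.ord h := by
  have hg' : Pt.val hdim x g ≠ 0 := (Valuation.ne_zero_iff _).2 hg
  have hh' : Pt.val hdim x h ≠ 0 := (Valuation.ne_zero_iff _).2 hh
  rw [Pt.ord_eq_val hdim, Pt.ord_eq_val hdim, Pt.ord_eq_val hdim, map_mul, log_mul hg' hh']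
  ring

include hdim in
theorem ord_inv (x : Pt c) (g : X.functionField) : x.ord g⁻¹ = -x.ord g := by
  rw [Pt.ord_eq_val hdim, Pt.ord_eq_val hdim, map_inv₀, log_inv]

include hdim in
theorem ord_one (x : Pt c) : x.ord (1 : X.functionField) = 0 := by
  rw [Pt.ord_eq_val hdim, map_one, log_one, neg_zero]

include hdim in
theorem ord_units_mul (x : Pt c) (g h : (X.functionField)ˣ) :
    x.ord ((g * h : (X.functionField)ˣ) : X.functionField) =
      x.ord (g : X.functionField) + x.ord (h : X.functionField) := by
  rw [Units.val_mul]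
  exact ord_mul hdim x g.ne_zero h.ne_zero

end basic

section comp

variable {G H : Type v} [CommGroup G] [CommGroup H]

include hdim in
/-- the terms of `evalDiv` have finite multiplicative support -/
theorem finite_mulSupport_evalDiv (m : Pt c →₀ ℕ) [∀ x, Decidable (x ∈ m.support)]
    (f : Pt c → G) (g : X.functionField) :
    (Function.mulSupport fun x : Pt c =>
      if x ∈ m.support then (1 : G) else f x ^ x.ord g).Finite := by
  refine (finite_ord_ne_zero hdim g).subset ?_
  intro x hx
  rw [Function.mem_mulSupport] at hx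
  rw [Set.mem_setOf_eq]
  intro h0
  apply hx
  split_ifs
  · rfl
  · rw [h0, zpow_zero]

include hdim in
theorem isModulus_comp (θ : G →* H) (f : Pt c → G) (m : Pt c →₀ ℕ) (hf : IsModulus f m) :
    IsModulus (fun x => θ (f x)) m := by
  classical
  intro g hg hcong
  have h1 := hf g hg hcong
  unfold evalDiv at h1 ⊢
  have h2 := MonoidHom.map_finprod θ (finite_mulSupport_evalDiv hdim m f g)
  rw [h1, map_one] at h2
  refine Eq.trans ?_ h2.symm
  apply finprod_congr
  intro x
  split_ifs
  · exact (map_one θ).symm
  · exact (map_zpow θ _ _).symm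

include hdim in
theorem isLocalSymbol_comp (θ : G →* H) (f : Pt c → G) (m : Pt c →₀ ℕ)
    (σ : Pt c → (X.functionField)ˣ →* G) (hσ : IsLocalSymbol f m σ) :
    IsLocalSymbol (fun x => θ (f x)) m (fun x => θ.comp (σ x)) := by
  refine ⟨?_, ?_, ?_, ?_⟩
  · intro x hx g hg
    rw [MonoidHom.comp_apply, hσ.eq_one_of_cong x hx g hg, map_one]
  · intro x hx g
    rw [MonoidHom.comp_apply, hσ.eq_pow_of_notMem x hx g, map_zpow]
  · intro g
    refine (hσ.mulSupport_finite g).subset ?_
    intro x hx
    rw [Function.mem_mulSupport] at hx ⊢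
    intro h1
    apply hx
    rw [MonoidHom.comp_apply, h1, map_one]
  · intro g
    have h2 := MonoidHom.map_finprod θ (hσ.mulSupport_finite g)
    rw [hσ.finprod_eq_one g, map_one] at h2
    exact h2.symm

end comp

end Groth.Agent.Lib.Helper34.LocSymLib
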