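import Groth.Agent.Lib.Helper34.LocSymLib.WeilRecip

/-!
# The generalised Weil pairing takes values in the n-th roots of unity (helper34)
-/

set_option autoImplicit false
set_option linter.style.haveILetI false
set_option linter.unusedSectionVars false

namespace Groth.Agent.Lib.Helper34.LocSymLib

universe u v

open AlgebraicGeometry CategoryTheory WithZero LocSym
open Classical

variable {k : Type u} [Field k] [IsAlgClosed k] {X : Scheme.{u}} [IsIntegral X]
  {c : X ⟶ Spec (CommRingCat.of k)} [IsProper c] [Smooth c] (hdim : topologicalKrullDim X = 1)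

include hdim in
/-- a nonzero value forces order zero -/
theorem ord_eq_zero_of_hasValueAt (x : Pt c) {g : X.functionField} (a : kˣ)
    (h : HasValueAt x g (a : k)) : x.ord g = 0 :=
  hv_ord_eq_zero hdim x a.ne_zero ((hasValueAt_iff hdim x g _).1 h)

include hdim in
theorem hasValueAt_unique (x : Pt c) {g : X.functionField} {a b : k}
    (ha : HasValueAt x g a) (hb : HasValueAt x g b) : a = b :=
  hv_unique hdim x ((hasValueAt_iff hdim x g _).1 ha) ((hasValueAt_iff hdim x g _).1 hb)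

include hdim in
/-- a choice of values at the points where the order vanishes, extending given ones -/
theorem exists_values_extending {g : X.functionField} (hg : g ≠ 0) (S : Set (Pt c))
    (v : Pt c → kˣ) (hv : ∀ x ∈ S, HasValueAt x g (v x : k)) :
    ∃ w : Pt c → kˣ, (∀ x ∈ S, w x = v x) ∧
      ∀ x : Pt c, x.ord g = 0 → HasValueAt x g (w x : k) := by
  have hex : ∀ x : Pt c, ∃ a : kˣ, (x ∈ S → a = v x) ∧ (x.ord g = 0 → HasValueAt x g (a : k)) := by
    intro x
    by_cases hx : x ∈ S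
    · exact ⟨v x, fun _ => rfl, fun _ => hv x hx⟩
    · by_cases h0 : x.ord g = 0
      · obtain ⟨a, ha⟩ := exists_hv_of_ord_eq_zero hdim x hg h0
        exact ⟨a, fun h => absurd h hx, fun _ => (hasValueAt_iff hdim x g _).2 ha⟩
      · exact ⟨1, fun h => absurd h hx, fun h => absurd h h0⟩
  choose w hw using hex
  exact ⟨w, fun x hx => (hw x).1 hx, fun x hx => (hw x).2 hx⟩

include hdim in
/-- **The generalised Weil pairing is killed by `n`.** -/
theorem weil_pairing_pow (n : ℕ) (hn : 1 ≤ n) (Z : Finset (Pt c))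
    (f₁ f₂ : X.functionField) (hf₁ : f₁ ≠ 0) (hf₂ : f₂ ≠ 0)
    (D₁ D₁' D₂ : Pt c →₀ ℤ)
    (hD₁ : ∀ x : Pt c, (n : ℤ) * D₁ x = x.ord f₁ + D₁' x) (hD₁' : D₁'.support ⊆ Z)
    (hD₂ : ∀ x : Pt c, (n : ℤ) * D₂ x = x.ord f₂)
    (hf₂Z : ∀ x ∈ Z, HasValueAt x f₂ 1)
    (hdisj : ∀ x : Pt c, x.ord f₁ = 0 ∨ D₂ x = 0)
    (v₁ v₂ : Pt c → kˣ)
    (hv₁ : ∀ x ∈ D₂.support, HasValueAt x f₁ (v₁ x : k))
    (hv₂ : ∀ x ∈ D₁.support, HasValueAt x f₂ (v₂ x : k)) :
    ((D₂.prod fun x e => v₁ x ^ e) / (D₁.prod fun x e => v₂ x ^ e)) ^ n = 1 := by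
  have hn0 : (n : ℤ) ≠ 0 := by exact_mod_cast (show n ≠ 0 by omega)
  -- extend the values
  obtain ⟨w₁, hw₁a, hw₁b⟩ := exists_values_extending hdim hf₁ (D₂.support : Set (Pt c)) v₁
    (fun x hx => hv₁ x hx)
  obtain ⟨u₂, hu₂⟩ : ∃ u₂ : Pt c → kˣ, ∀ x, u₂ x = if x ∈ D₁.support then v₂ x else 1 :=
    ⟨fun x => if x ∈ D₁.support then v₂ x else 1, fun _ => rfl⟩
  have hu₂S : ∀ x ∈ (D₁.support : Set (Pt c)) ∪ (Z : Set (Pt c)), HasValueAt x f₂ (u₂ x : k) := by
    intro x hx
    rw [hu₂]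
    by_cases h : x ∈ D₁.support
    · rw [if_pos h]
      exact hv₂ x h
    · rw [if_neg h, Units.val_one]
      rcases hx with hx | hx
      · exact absurd hx h
      · exact hf₂Z x hx
  obtain ⟨w₂, hw₂a, hw₂b⟩ := exists_values_extending hdim hf₂ _ u₂ hu₂S
  -- Weil reciprocity
  have hdisj' : ∀ x : Pt c, x.ord f₁ = 0 ∨ x.ord f₂ = 0 := by
    intro x
    rcases hdisj x with h | h
    · exact Or.inl h
    · right
      rw [← hD₂ x, h, mul_zero]
  have hW := weil_reciprocity hdim hf₁ hf₂ hdisj' w₁ w₂ hw₁b hw₂b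
  -- the left side
  have hL : ∏ᶠ x : Pt c, w₁ x ^ x.ord f₂ = (D₂.prod fun x e => v₁ x ^ e) ^ n := by
    rw [finprod_eq_prod_of_mulSupport_subset (s := D₂.support)]
    · unfold Finsupp.prod
      rw [← Finset.prod_pow]
      apply Finset.prod_congr rfl
      intro x hx
      rw [hw₁a x hx, ← hD₂ x, mul_comm, zpow_mul, zpow_natCast]
    · intro x hx
      rw [Function.mem_mulSupport] at hx
      rw [Finset.mem_coe, Finsupp.mem_support_iff]
      intro h
      apply hx
      rw [← hD₂ x, h, mul_zero, zpow_zero]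
  -- the right side
  have hw₂Z : ∀ x ∈ Z, w₂ x = 1 := by
    intro x hx
    apply Units.ext
    rw [Units.val_one]
    have h1 := hu₂S x (Or.inr hx)
    rw [← hw₂a x (Or.inr hx)] at h1
    exact hasValueAt_unique hdim x h1 (hf₂Z x hx)
  have hR : ∏ᶠ x : Pt c, w₂ x ^ x.ord f₁ = (D₁.prod fun x e => v₂ x ^ e) ^ n := by
    have hterm : ∀ x : Pt c, w₂ x ^ x.ord f₁ = w₂ x ^ ((n : ℤ) * D₁ x) := by
      intro x
      have h1 : x.ord f₁ = (n : ℤ) * D₁ x - D₁' x := by rw [hD₁ x]; ring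
      by_cases hx : x ∈ D₁'.support
      · rw [hw₂Z x (hD₁' hx), one_zpow, one_zpow]
      · rw [Finsupp.notMem_support_iff] at hx
        rw [h1, hx, sub_zero]
    rw [finprod_congr hterm, finprod_eq_prod_of_mulSupport_subset (s := D₁.support)]
    · unfold Finsupp.prod
      rw [← Finset.prod_pow]
      apply Finset.prod_congr rfl
      intro x hx
      have : w₂ x = v₂ x := by
        rw [hw₂a x (Or.inl hx), hu₂, if_pos hx]
      rw [this, mul_comm, zpow_mul, zpow_natCast]
    · intro x hx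
      rw [Function.mem_mulSupport] at hx
      rw [Finset.mem_coe, Finsupp.mem_support_iff]
      intro h
      apply hx
      rw [h, mul_zero, zpow_zero]
  rw [div_pow, ← hL, ← hR, hW, div_self']

end Groth.Agent.Lib.Helper34.LocSymLib
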